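import Cfsg.Agent.BZ.T.Crit
import Cfsg.Agent.PQ.Spor.Eng
import Cfsg.Agent.TAB.Eng.Fin
import Cfsg.Agent.TAB.Use.Main
import Cfsg.Agent.H613.RegGram
import Cfsg.Agent.Blocks.HeightZeroSection
import Cfsg.Agent.S4528
import Cfsg.Agent.S4530
import Cfsg.Agent.SmallSimple.OrderEight

/-!
# BZ, simple sporadic groups: the engine for tables (helper88)

An anchor is a character `k` with a row of its own. The regular part of the row is expanded over the relations of the
table; a character with a coefficient `≠ 0` lies in the block of `k`.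

* `Out e p B` : two degrees of height zero, and a positive height unless `p = 2` and the defect is `3`, or `p = e`;
* `out_of_tab` : the check; `not_hz_eight` : non-abelian defect groups of order eight; `cov_P`, `cov_T`.
-/

set_option autoImplicit false
set_option linter.unusedSectionVars false

namespace Cfsg.Agent.BZ.S1

open Cfsg Subgroup Cfsg.Agent.TAB.Eng Cfsg.Agent.TAB.Use Cfsg.Agent.Characters.Core Cfsg.Agent.H613.RegGram
open Cfsg.Agent.Blocks.Blau

/-- an anchor: the relation `i` is the row of the character `k`, and `a` expands `m` times its regular part -/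
structure An where
  i : ℕ
  k : ℕ
  m : ℤ
  a : List ℤ
  j₁ : ℕ
  j₂ : ℕ

/-- `V` plus a combination of the relations -/
noncomputable def acc (a : List ℤ) : List (List (ℕ × ℤ) × List ℤ) → List ℤ → List ℤ :=
  List.rec (fun _ V => V) (fun x _ ih L V => List.rec V (fun r L' _ =>
    cond (Nat.beq x.natAbs 0) (ih L' V) (frcLZ (axz x V r.2) fun V' => ih L' V')) L) a

theorem nth_acc (a : List ℤ) (L : List (List (ℕ × ℤ) × List ℤ)) (V : List ℤ) {t : ℕ} (h : t < V.length) :
    (acc a L V).length = V.length ∧ nth (acc a L V) t = nth V t + ((a.zip L).map fun x => x.1 * nth x.2.2 t).sum := by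
  induction a generalizing L V with
  | nil => exact ⟨rfl, (add_zero _).symm⟩
  | cons x a ih => cases L with
    | nil => exact ⟨rfl, (add_zero _).symm⟩
    | cons r L =>
      have h1 : acc (x :: a) (r :: L) V =
          cond (Nat.beq x.natAbs 0) (acc a L V) (frcLZ (axz x V r.2) fun V' => acc a L V') := rfl
      rw [h1, frcLZ_eq, List.zip_cons_cons, List.map_cons, List.sum_cons]
      cases h0 : Nat.beq x.natAbs 0
      · have h2 := ih L (axz x V r.2) (by rwa [length_axz])
        rw [cond_false, h2.1, h2.2, length_axz, nth_axz _ _ _ h, add_assoc]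
        exact ⟨rfl, rfl⟩
      · rw [cond_true, Int.natAbs_eq_zero.1 (Nat.eq_of_beq_eq_true h0), zero_mul, zero_add]
        exact ih L V h

/-- evaluate a list of pairs before passing it on -/
noncomputable def frcP {β : Type} (l : List (ℕ × ℤ)) : (List (ℕ × ℤ) → β) → β :=
  List.rec (fun k => k []) (fun q _ ih k => frc q.1 fun a => frcZ q.2 fun b => ih fun l' => k ((a, b) :: l')) l

theorem frcP_eq {β : Type} (l : List (ℕ × ℤ)) (k : List (ℕ × ℤ) → β) : frcP l k = k l := by
  induction l generalizing k with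
  | nil => rfl
  | cons q l ih =>
    have h : frcP (q :: l) k = frc q.1 fun a => frcZ q.2 fun b => frcP l fun l' => k ((a, b) :: l') := rfl
    rw [h, frc_eq, frcZ_eq, ih]

/-- evaluate the relations before passing them on -/
noncomputable def frcR {β : Type} (l : List (List (ℕ × ℤ) × List ℤ)) : (List (List (ℕ × ℤ) × List ℤ) → β) → β :=
  List.rec (fun k => k []) (fun q _ ih k => frcP q.1 fun a => frcLZ q.2 fun b => ih fun l' => k ((a, b) :: l')) l

theorem frcR_eq {β : Type} (l : List (List (ℕ × ℤ) × List ℤ)) (k : List (List (ℕ × ℤ) × List ℤ) → β) :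
    frcR l k = k l := by
  induction l generalizing k with
  | nil => rfl
  | cons q l ih => exact (frcP_eq _ _).trans ((frcLZ_eq _ _).trans (ih _))

/-- the constituents of a combination of the relations -/
def cns (R : Rows) (a : List ℤ) : List (ℕ × ℤ) := (a.zip R.rel).flatMap fun x => x.2.1.map fun q => (q.1, x.1 * q.2)

/-- the coefficient of the character `j` -/
noncomputable def cof (l : List (ℕ × ℤ)) (j : ℕ) : ℤ :=
  List.rec 0 (fun q _ ih => cond (Nat.beq q.1 j) (Int.add q.2 ih) ih) l

theorem cof_eq (l : List (ℕ × ℤ)) (j : ℕ) : cof l j = coef l j := by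
  induction l with
  | nil => rfl
  | cons q l ih =>
    have h : cof (q :: l) j = cond (Nat.beq q.1 j) (q.2 + cof l j) (cof l j) := rfl
    rw [h, ih, coef, coef, List.map_cons, List.sum_cons]
    by_cases h1 : q.1 = j
    · rw [if_pos h1, Nat.beq_eq.mpr h1, cond_true]
    · rw [if_neg h1, Bool.eq_false_iff.2 fun h2 => h1 (Nat.eq_of_beq_eq_true h2), cond_false, zero_add]

theorem cof_cns (R : Rows) (a : List ℤ) (j : ℕ) :
    cof (cns R a) j = ((a.zip R.rel).map fun x => x.1 * coef x.2.1 j).sum := by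
  rw [cof_eq, cns]
  induction a.zip R.rel with
  | nil => rfl
  | cons x L ih =>
    rw [List.flatMap_cons, List.map_cons, List.sum_cons, ← ih, coef, coef, coef, List.map_append, List.sum_append,
      ← List.sum_map_mul_left, List.map_map]
    exact congrArg (· + _) (congrArg _ (List.map_congr_left fun q _ => by simp))

/-- the expansion is correct -/
noncomputable def expB (D : Dat) (R : Rows) (p : ℕ) (c : An) : Bool :=
  (R.rel[c.i]?).any fun r => r.1 == [(c.k, 1)] && allL (fun x => x == 0)
    (acc c.a R.rel ((List.range D.n).map fun t => if D.ord t % p = 0 then 0 else -(c.m * nth r.2 t)))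

/-- the check of an anchor -/
noncomputable def anB (D : Dat) (R : Rows) (e p : ℕ) (c : An) (l : List (ℕ × ℤ)) : Bool :=
  decide (c.k < R.n) && expB D R p c &&
    (decide (c.j₂ < R.n) && cof l c.j₂ != 0 && padicValNat p (R.d c.j₂) == padicValNat p (R.d c.k) &&
      R.d c.j₂ != R.d c.k) &&
    ((decide (c.j₁ < R.n) && cof l c.j₁ != 0 && padicValNat p (R.d c.j₁) != padicValNat p (R.d c.k)) ||
      (p == 2 && padicValNat p (R.d c.k) + 3 == padicValNat p D.N) || p == e)

/-- the check of a prime: the anchors cover the list -/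
noncomputable def prB (D : Dat) (R : Rows) (e p : ℕ) (A : List An) : List ℕ → Bool :=
  List.rec (fun L => L.isEmpty) (fun c _ ih L => frcP (cns R c.a) fun l => anB D R e p c l &&
    frcL (L.filter fun j => cof l j == 0 || decide (padicValNat p (R.d j) < padicValNat p (R.d c.k))) ih) A

theorem prB_spec {D : Dat} {R : Rows} {e p : ℕ} {A : List An} {L : List ℕ} (h : prB D R e p A L = true) {j : ℕ}
    (hj : j ∈ L) : ∃ c : An, anB D R e p c (cns R c.a) = true ∧ cof (cns R c.a) j ≠ 0 ∧
      padicValNat p (R.d c.k) ≤ padicValNat p (R.d j) := by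
  induction A generalizing L with
  | nil => exact absurd (List.isEmpty_iff.1 h ▸ hj) List.not_mem_nil
  | cons c A ih =>
    have h1 := (frcP_eq _ _).symm.trans h
    rw [Bool.and_eq_true, frcL_eq] at h1
    by_contra h2
    refine h2 (ih h1.2 (List.mem_filter.2 ⟨hj, ?_⟩))
    rw [Bool.or_eq_true, beq_iff_eq, decide_eq_true_eq]
    exact by_contra fun h3 => h2 ⟨c, h1.1, fun h4 => h3 (.inl h4), not_lt.1 fun h4 => h3 (.inr h4)⟩

/-- the check of a table -/
noncomputable def tabB (D : Dat) (R : Rows) (e : ℕ) (C : List (ℕ × List An)) : Bool :=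
  D.N != 0 && PQ.Spor.PL.prod ^ 50 % D.N == 0 && (R.rel.all fun r => r.1.all fun q => decide (q.1 < R.n)) &&
    PQ.Spor.PL.all fun p => D.N % p ^ 3 != 0 || C.any fun c => c.1 == p && prB D R e p c.2
      ((List.range R.n).filter fun j => decide (padicValNat p (R.d j) + 3 ≤ padicValNat p D.N))

/-- the same after the evaluation of the table -/
noncomputable def tabF (D : Dat) (R : Rows) (e : ℕ) (C : List (ℕ × List An)) : Bool :=
  frcL R.deg fun dg => frcR R.rel fun rl => tabB D ⟨dg, rl⟩ e C

theorem tabF_eq (D : Dat) (R : Rows) (e : ℕ) (C : List (ℕ × List An)) : tabF D R e C = tabB D R e C :=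
  (frcL_eq _ _).trans (frcR_eq _ _)

/-- the tails of the columns -/
noncomputable def tls {β : Type} (C : List (List ℤ)) : (List (List ℤ) → β) → β :=
  List.rec (fun k => k []) (fun c _ ih k => List.rec (ih fun l => k ([] :: l)) (fun _ c' _ => ih fun l => k (c' :: l)) c) C

theorem tls_eq {β : Type} (C : List (List ℤ)) (k : List (List ℤ) → β) : tls C k = k (C.map List.tail) := by
  induction C generalizing k with
  | nil => rfl
  | cons c C ih => cases c <;> exact ih _

/-- the first rows of a table which is given by its columns -/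
noncomputable def trs (k : ℕ) : List (List ℤ) → List (List ℤ) :=
  Nat.rec (fun _ => []) (fun _ ih C => rwL C 0 :: tls C ih) k

theorem trs_eq (k : ℕ) (C : List (List ℤ)) : trs k C = (List.range k).map (rwL C) := by
  induction k generalizing C with
  | zero => rfl
  | succ k ih =>
    rw [List.range_succ_eq_map, List.map_cons, List.map_map]
    refine congrArg _ ((tls_eq _ _).trans ((ih _).trans (List.map_congr_left fun j _ => ?_)))
    rw [rwL, List.map_map]
    exact List.map_congr_left fun c _ => nth_tail c j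

theorem relL_eq (C : List (List ℤ)) (cs : List (List (ℕ × ℤ))) (j : ℕ) :
    relL C cs j = cs.zip ((List.range' j cs.length).map (rwL C)) := by
  induction cs generalizing j with
  | nil => rfl
  | cons c cs ih => exact congrArg (_ :: ·) (ih _)

theorem mkR_eq (C : List (List ℤ)) (dg : List ℕ) (cs : List (List (ℕ × ℤ))) :
    mkR C dg cs = ⟨dg, cs.zip (trs cs.length C)⟩ := by
  rw [mkR, relL_eq, trs_eq, List.range_eq_range']

/-- the result for one block -/
def Out (e p : ℕ) {G : Type} [Group G] (B : Set (IrrCharacter G)) : Prop :=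
  ¬ XT p G B ∧ (¬ XP p G B ∨ (p = 2 ∧ blockDefect p B = 3) ∨ p = e)

variable {G : Type} [Group G] [Finite G] {D : Dat} {T : TD G D} {R : Rows} {χ : ℕ → G → ℂ} {p e : ℕ} [hp : Fact p.Prime]
  {M : Ideal AlgInt} {B : Set (IrrCharacter G)}

theorem inner_lin [Fintype G] (hE : Enum G R.n R.d χ) {j : ℕ} (hj : j < R.n) (L : List (ℤ × List (ℕ × ℤ) × List ℤ))
    (hL : ∀ x ∈ L, ∀ q ∈ x.2.1, q.1 < R.n) :
    classInner (fun g => (L.map fun x => (x.1 : ℂ) * (x.2.1.map fun q => (q.2 : ℂ) * χ q.1 g).sum).sum) (χ j) =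
      ((L.map fun x => x.1 * coef x.2.1 j).sum : ℤ) := by
  induction L with
  | nil => exact (classInner_zero_left _).trans Int.cast_zero.symm
  | cons x L ih =>
    rw [List.map_cons, List.sum_cons, Int.cast_add, Int.cast_mul, ← ih fun y hy => hL y (List.mem_cons_of_mem _ hy),
      ← inner_comb hE hj _ (hL x List.mem_cons_self), ← classInner_smul_left, ← classInner_add_left]
    rfl

/-- **the link** -/
theorem link (hE : Enum G R.n R.d χ) (hR : Rel T R χ) (hl : ∀ r ∈ R.rel, ∀ q ∈ r.1, q.1 < R.n) (hM : IsPModular p M)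
    (hB : IsPBlock M B) {c : An} (hk : c.k < R.n) (hc : expB D R p c = true) {j : ℕ} (hj : j < R.n)
    (h : cof (cns R c.a) j ≠ 0) : (⟨χ j, hE.irr j hj⟩ : IrrCharacter G) ∈ B ↔ (⟨χ c.k, hE.irr _ hk⟩ : IrrCharacter G) ∈ B := by
  have := Fintype.ofFinite G
  simp only [expB, Option.any_eq_true, Bool.and_eq_true, beq_iff_eq] at hc
  obtain ⟨r, h1, h2, h3⟩ := hc
  have h4 := inner_lin hE hj (c.a.zip R.rel) fun x hx => hl _ (List.of_mem_zip hx).2
  have h5 : (fun g => ((c.a.zip R.rel).map fun x => (x.1 : ℂ) * (x.2.1.map fun q => (q.2 : ℂ) * χ q.1 g).sum).sum) =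
      (c.m : ℂ) • regPart p (χ c.k) := funext fun g => by
    have h6 := nth_acc c.a R.rel ((List.range D.n).map fun t => if D.ord t % p = 0 then 0 else -(c.m * nth r.2 t))
      (t := T.ty g) (by rw [List.length_map, List.length_range]; exact T.lt g)
    have h7 := T.lt g
    have h8 := allL_spec h3 _ (List.getElem_mem (n := T.ty g) (by rw [h6.1, List.length_map, List.length_range]; exact h7))
    rw [beq_iff_eq, ← List.getD_eq_getElem _ 0, ← nth_eq, h6.2, nth_eq,
      List.getD_eq_getElem _ _ (by rw [List.length_map, List.length_range]; exact h7), List.getElem_map,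
      List.getElem_range, ← T.ord] at h8
    have h9 : ((c.a.zip R.rel).map fun x => (x.1 : ℂ) * (x.2.1.map fun q => (q.2 : ℂ) * χ q.1 g).sum).sum =
        (((c.a.zip R.rel).map fun x => x.1 * nth x.2.2 (T.ty g)).sum : ℤ) := by
      rw [Int.cast_list_sum, List.map_map]
      refine congrArg _ (List.map_congr_left fun x hx => ?_)
      rw [hR _ (List.of_mem_zip hx).2 g, Function.comp_apply, Int.cast_mul, nth_eq]
    rw [h9, eq_neg_of_add_eq_zero_right h8, Pi.smul_apply, smul_eq_mul]
    by_cases h0 : p ∣ orderOf g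
    · rw [if_pos (Nat.mod_eq_zero_of_dvd h0), regPart_of_dvd h0, neg_zero, mul_zero, Int.cast_zero]
    · rw [if_neg fun h => h0 (Nat.dvd_of_mod_eq_zero h), regPart_of_not_dvd h0, neg_neg,
        hR.row (List.mem_of_getElem? h1) h2 g, Int.cast_mul, nth_eq]
  rw [h5, classInner_smul_left, ← rg_eq_classInner, ← cof_cns] at h4
  have h6 : rg p (χ c.k) (χ j) ≠ 0 := fun h6 => h (Int.cast_injective (α := ℂ) (h4.symm.trans (by
    rw [h6, mul_zero, Int.cast_zero])))
  refine ⟨fun h7 => by_contra fun h8 => ?_, fun h7 => by_contra fun h8 => ?_⟩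
  · have h9 := rg_eq_zero' hM hB h8 h7
    exact h6 h9
  · have h9 := rg_eq_zero hM hB h7 h8
    exact h6 h9

theorem out_of_pr (hN : Nat.card G = D.N) (h : Tab T R) (hl : ∀ r ∈ R.rel, ∀ q ∈ r.1, q.1 < R.n) (hM : IsPModular p M)
    (hB : IsPBlock M B) (h3 : 3 ≤ blockDefect p B) {A : List An}
    (hc : prB D R e p A ((List.range R.n).filter fun j => decide (padicValNat p (R.d j) + 3 ≤ padicValNat p D.N)) = true) :
    Out e p B := by
  have := hM.2.1.isPrime
  obtain ⟨χ, hE, hR⟩ := h
  obtain ⟨⟨θ, hθ⟩, h1, h0⟩ := Blocks.HeightZeroSection.exists_height_zero (Blocks.Basic.isPBlock_nonempty hB) p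
  obtain ⟨j, hj, rfl⟩ := hE.all θ hθ
  have hm : ∀ i (hi : i < R.n), (⟨χ i, hE.irr i hi⟩ : IrrCharacter G) ∈ B →
      sInf ((fun ψ : IrrCharacter G => (charDegree (ψ : G → ℂ)).factorization p) '' B) ≤ padicValNat p (R.d i) :=
    fun i hi h => Nat.sInf_le ⟨_, h, by rw [← hE.charDegree_eq hi, ← Nat.factorization_def _ hp.out]⟩
  have hh : ∀ i < R.n, blockHeight p B (χ i) = padicValNat p (R.d i) -
      sInf ((fun ψ : IrrCharacter G => (charDegree (ψ : G → ℂ)).factorization p) '' B) := fun i hi => by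
    rw [blockHeight, hE.charDegree_eq hi, Nat.factorization_def _ hp.out]
  have hd : blockDefect p B = padicValNat p D.N -
      sInf ((fun ψ : IrrCharacter G => (charDegree (ψ : G → ℂ)).factorization p) '' B) := by
    rw [blockDefect, hN, Nat.factorization_def _ hp.out]
  have h2 := hh j hj
  have h4 := hm j hj h1
  rw [show blockHeight p B (χ j) = 0 from h0] at h2
  obtain ⟨c, h8, h6, h7⟩ := prB_spec hc (List.mem_filter.2 ⟨List.mem_range.2 hj, decide_eq_true (by omega)⟩)
  simp only [anB, Bool.and_eq_true, Bool.or_eq_true, decide_eq_true_eq, bne_iff_ne, beq_iff_eq] at h8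
  obtain ⟨⟨⟨a1, a2⟩, ⟨⟨a3, a4⟩, a5⟩, a6⟩, a7⟩ := h8
  have b1 := (link hE hR hl hM hB a1 a2 hj h6).1 h1
  have b2 := hm _ a1 b1
  refine ⟨fun H => a6 ?_, ?_⟩
  · rw [← hE.charDegree_eq a3, ← hE.charDegree_eq a1]
    exact H _ ((link hE hR hl hM hB a1 a2 a3 a4).2 b1) _ b1 ((hh _ a3).trans (by omega)) ((hh _ a1).trans (by omega))
  · rcases a7 with (⟨⟨a7, a8⟩, a9⟩ | a7) | a7
    · have b3 := (link hE hR hl hM hB a1 a2 a7 a8).2 b1
      have b4 := hm _ a7 b3
      refine .inl fun H => ?_
      have b5 := (hh _ a7).symm.trans (H _ b3)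
      omega
    · exact .inr (.inl ⟨a7.1, by omega⟩)
    · exact .inr (.inr a7)

/-- **the check of a table** -/
theorem out_of_tab (hN : Nat.card G = D.N) (h : Tab T R) {C : List (ℕ × List An)} (hc : tabB D R e C = true)
    (hM : IsPModular p M) (hB : IsPBlock M B) (h3 : 3 ≤ blockDefect p B) : Out e p B := by
  simp only [tabB, Bool.and_eq_true, List.all_eq_true, Bool.or_eq_true, decide_eq_true_eq, List.any_eq_true, bne_iff_ne,
    beq_iff_eq] at hc
  have h1 : p ^ 3 ∣ D.N := hN ▸ (hp.out.pow_dvd_iff_le_factorization Nat.card_pos.ne').2 (h3.trans (Nat.sub_le _ _))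
  obtain ⟨c, -, -, h2⟩ := (hc.2 p (PQ.Spor.mem_PL hc.1.1.2 hp.out ((dvd_pow_self p (by norm_num)).trans h1))).resolve_left
    fun h2 => h2 (Nat.mod_eq_zero_of_dvd h1)
  exact out_of_pr hN h hc.1.2 hM hB h3 h2

variable {E : Subgroup G}

/-- a non-abelian defect group of order eight: four members of height zero, and one more member -/
theorem four_eight (hM : IsPModular 2 M) (hB : IsPBlock M B) (hE : IsDefectGroup 2 M B E) (h8 : Nat.card E = 8)
    (hn : ¬ IsMulCommutative E) :
    Nat.card {χ : IrrCharacter G // χ ∈ B ∧ blockHeight 2 B (χ : G → ℂ) = 0} = 4 ∧ 4 < Nat.card B := by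
  rcases SmallSimple.OrderEight.dihedral_or_quaternion_of_card_eight h8 hn with h | h
  · obtain ⟨h1, -, -, h2, -⟩ := S4528.result M hM B hB E hE 3 le_rfl h
    exact ⟨h2, h1 ▸ by norm_num⟩
  · obtain ⟨h0, -, h1, h2, -⟩ := S4530.result M hM B hB E hE 3 le_rfl h
    exact ⟨h2, by omega⟩

theorem not_hz_eight (hM : IsPModular 2 M) (hB : IsPBlock M B) (hE : IsDefectGroup 2 M B E) (h8 : Nat.card E = 8)
    (hn : ¬ IsMulCommutative E) : ¬ XP 2 G B := fun H => by
  obtain ⟨h1, h2⟩ := four_eight hM hB hE h8 hn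
  rw [Nat.card_congr (Equiv.subtypeEquivRight fun χ => and_iff_left_of_imp (H χ))] at h1
  exact h2.ne' h1

variable {S : Type} [Group S] {σ : G →* S}

theorem Hyp.three (H : Hyp p M B E σ) : 3 ≤ blockDefect p B := by
  have h := H.cube_dvd
  rwa [S0908.result p M H.hM B H.hB E H.hD, Nat.pow_dvd_pow_iff_le_right hp.out.one_lt] at h

/-- the quotient by a trivial centre -/
noncomputable def Hyp.iso (H : Hyp p M B E σ) (h : Nat.card (center G) = 1) : G ≃* S :=
  MulEquiv.ofBijective σ ⟨(MonoidHom.ker_eq_bot_iff σ).1 (H.ker.trans (card_eq_one.1 h)), H.surj⟩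

/-- the result for the blocks of the groups isomorphic to `S` -/
def OutG (e : ℕ) (S : Type) [Group S] : Prop :=
  ∀ (p : ℕ) [Fact p.Prime] (G : Type) [Group G] [Finite G], G ≃* S → ∀ M : Ideal AlgInt, IsPModular p M →
    ∀ B : Set (IrrCharacter G), IsPBlock M B → 3 ≤ blockDefect p B → Out e p B

theorem OutG.cov_T (h : OutG e S) (p : ℕ) [Fact p.Prime] : Cov XT 1 p S := fun K _ _ _ M B _ H h1 =>
  (h p K (Hyp.iso H h1) M H.hM B H.hB (Hyp.three H)).1

theorem OutG.cov_P (h : OutG e S) (p : ℕ) [Fact p.Prime] (he : p ≠ e) : Cov XP 1 p S := fun K _ _ _ M B D H h1 => by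
  rcases (h p K (Hyp.iso H h1) M H.hM B H.hB (Hyp.three H)).2 with h2 | ⟨rfl, h2⟩ | h2
  · exact h2
  · exact not_hz_eight H.hM H.hB H.hD ((S0908.result 2 M H.hM B H.hB D H.hD).trans (by rw [h2]; rfl)) H.nab
  · exact absurd h2 he

/-- abelian Sylow subgroups -/
theorem cov_of_comm {X : Bad} [Finite S] (h : ∀ P : Sylow p S, IsMulCommutative (P : Subgroup S)) : Cov X 1 p S :=
  fun K _ _ σ M B D H h1 => by
  obtain ⟨P, hP⟩ := (H.pg.map σ).exists_le_sylow
  refine absurd ⟨⟨fun a b => Subtype.ext ((Hyp.iso H h1).injective ?_)⟩⟩ H.nab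
  have h2 := (h P).is_comm.comm ⟨σ a, hP ⟨a, a.2, rfl⟩⟩ ⟨σ b, hP ⟨b, b.2, rfl⟩⟩
  rw [coe_mul, coe_mul, map_mul, map_mul]
  exact congrArg Subtype.val h2

end Cfsg.Agent.BZ.S1
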