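import Cfsg.Agent.BZ.S1.Cert
import Cfsg.Agent.BZ.T.Loc
import Cfsg.Agent.TAB.J1.Main
import Cfsg.Agent.TAB.J3.Main
import Cfsg.Agent.H305.OddJ3
import Cfsg.Agent.H573.Spor.ONThree
import Cfsg.Agent.UGT.EndJ1.Data

/-!
# BZ, simple sporadic groups and the Tits group (helper88)

`one_P`, `one_T` : the fields `Sp.one` for `XP` and `XT`.
-/

set_option autoImplicit false

namespace Cfsg.Agent.BZ.S1

open Cfsg Subgroup Cfsg.Agent.TAB Cfsg.Agent.TAB.Use

theorem cov_J1 (X : Bad) (p : ℕ) [Fact p.Prime] : Cov X 1 p Spor.J1 := by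
  have := J1.finite
  refine cov_of_comm fun P => ?_
  by_cases h : p = 2
  · subst h
    exact ⟨⟨Commute.of_orderOf_dvd_two fun x => orderOf_dvd_of_pow_eq_one
      ((pow_two x).trans (Subtype.ext ((UGT.EndJ1.Data.bal.syl P).2 x x.2)))⟩⟩
  · refine BHZ.Spor.comm_of_not_cube_dvd P.2 fun h3 => ?_
    replace h3 := h3.trans (card_subgroup_dvd_card _)
    rw [H413.JOneLocal.card_J1] at h3
    rcases small_prime h3 (by decide +kernel) with rfl | rfl | rfl | rfl | rfl | rfl | rfl | rfl | rfl | rfl | rfl | rfl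
    all_goals first | exact h rfl | exact absurd h3 (by decide +kernel)

theorem ex_deg {K : Type} [Group K] {L : List ℕ} (h : DegList K L) {d : ℕ} (hd : d ∈ L) :
    ∃ χ : IrrCharacter K, charDegree (χ : K → ℂ) = d := by
  obtain ⟨χ, hE⟩ := h
  obtain ⟨j, hj, rfl⟩ := List.getElem_of_mem hd
  exact ⟨⟨χ j, hE.irr j hj⟩, (hE.charDegree_eq hj).trans (List.getD_eq_getElem _ _ hj)⟩

theorem not_J3 {p : ℕ} [hp : Fact p.Prime] {M : Ideal AlgInt} {K S : Type} [Group K] [Finite K] [Group S] [Finite S]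
    {σ : K →* S} {B : Set (IrrCharacter K)} {D : Subgroup K} (h : Spor.IsoJ3 S) (H : Hyp p M B D σ)
    (h1 : Nat.card (center K) = 1) : ¬ XP p K B ∧ ¬ XT p K B := by
  have hK : Spor.IsoJ3 K := by
    obtain ⟨F, _, _, ω, h2, h3, ⟨e⟩⟩ := h
    exact ⟨F, _, _, ω, h2, h3, ⟨(Hyp.iso H h1).trans e⟩⟩
  have hN := J3.card_eq h
  have hL := J3.deg hK
  have hf : ∀ χ : IrrCharacter K, ∀ z ∈ center K, (χ : K → ℂ) z = (χ : K → ℂ) 1 → z = 1 := fun _ z hz _ => by
    rwa [card_eq_one.1 h1, mem_bot] at hz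
  have hR : ∀ d : ℕ, (p ≠ 2 → ¬ p ^ d ∣ 1920) → (p ≠ 3 → ¬ p ^ d ∣ 1080 ∧ ¬ p ∣ 3 ^ 5 ∧ d ≠ 0) → ¬ p ^ d ∣ 30 →
      ¬ p ^ d ∣ 17 → ¬ p ^ d ∣ 19 → T.Reg p d S := fun d a2 a3 a5 a17 a19 => T.reg_of_prime fun y hy h3 => by
    rcases H898.J3Cent.prime_dvd_card hy ((orderOf_dvd_natCard y).trans hN.dvd) with h2 | h2 | h2 | h2 | h2
    · exact ((H898.J3Cent.base h).2.2 y h2).2.1 ▸ a2 (h2 ▸ h3).symm
    · obtain ⟨b1, b2, b3⟩ := a3 (h2 ▸ h3).symm
      exact (H305.OddJ3.cent_three h h2).elim (fun h4 => h4 ▸ b1) fun h4 h5 => b2 ((dvd_pow_self p b3).trans (h5.trans h4))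
    · exact (H296.JT.cn5 h h2).1 ▸ a5
    · exact (H898.J3Cent.seventeen h h2).1 ▸ a17
    · exact H898.J3Cent.card_nineteen h h2 ▸ a19
  have key : ∀ d n : ℕ, T.Reg p d S → p ^ d ∣ Nat.card D → n ∈ H306.SD.J.degs → p ∣ n →
      padicValNat p n + d ≤ padicValNat p 50232960 → ¬ p ∣ 85 → ¬ XP p K B ∧ ¬ XT p K B := fun d n a1 a2 a3 a4 a5 a6 => by
    obtain ⟨χ, b1⟩ := ex_deg hL a3
    obtain ⟨φ, b2⟩ := ex_deg hL (d := 1) (by decide)
    obtain ⟨ψ, b3⟩ := ex_deg hL (d := 85) (by decide)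
    have b4 := H.ce.rt_of_reg a1 a2
    exact ⟨H.not_XP b4 χ (hf χ) (H.ce.top_of_crit H.hM a1 χ (by
        rwa [b1, hN, Nat.factorization_def _ hp.out, Nat.factorization_def _ hp.out])) (b1 ▸ a4),
      H.not_XT b4 φ ψ (hf φ) (hf ψ) (b2 ▸ hp.out.not_dvd_one) (b3 ▸ a6) (by rw [b2, b3]; decide)⟩
  have h3 := H.cube
  rw [hN] at h3
  rcases H898.J3Cent.prime_dvd_card hp.out ((dvd_pow_self p (by norm_num)).trans h3) with rfl | rfl | rfl | rfl | rfl
  · by_cases h4 : 2 ^ 4 ∣ Nat.card D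
    · exact key 4 646 (hR 4 (absurd rfl) (fun _ => by decide) (by decide) (by decide) (by decide)) h4 (by decide)
        (by decide) (by decide +kernel) (by decide)
    have h5 := S0908.result 2 M H.hM B H.hB D H.hD
    have h6 := Hyp.three H
    rw [h5, Nat.pow_dvd_pow_iff_le_right Nat.one_lt_two] at h4
    have h7 : blockDefect 2 B = 3 := by omega
    have h8 := (four_eight H.hM H.hB H.hD (h5.trans (by rw [h7]; rfl)) H.nab).1
    obtain ⟨χ, hE⟩ := hL
    rw [blockDefect, J3.card_eq hK, Nat.factorization_def _ hp.out,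
      show padicValNat 2 50232960 = 7 by decide +kernel] at h7
    have h9 : ∀ θ : {χ : IrrCharacter K // χ ∈ B ∧ blockHeight 2 B (χ : K → ℂ) = 0}, (θ.1 : K → ℂ) = χ 8 := by
      rintro ⟨⟨θ, b0⟩, b1, b2⟩
      obtain ⟨j, hj, rfl⟩ := hE.all θ b0
      have b3 := Nat.sInf_le (s := (fun ψ : IrrCharacter K => (charDegree (ψ : K → ℂ)).factorization 2) '' B) ⟨_, b1, rfl⟩
      rw [blockHeight] at b2
      have b4 : (charDegree (χ j)).factorization 2 = 4 := by
        simp only at b2 b3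
        omega
      rw [hE.charDegree_eq hj, Nat.factorization_def _ hp.out] at b4
      have b5 : ∀ j < H306.SD.J.degs.length, padicValNat 2 (H306.SD.J.degs.getD j 0) = 4 → j = 8 := by decide +kernel
      exact congrArg χ (b5 j hj b4)
    have : Subsingleton {χ : IrrCharacter K // χ ∈ B ∧ blockHeight 2 B (χ : K → ℂ) = 0} :=
      ⟨fun a b => Subtype.ext (Subtype.ext ((h9 a).trans (h9 b).symm))⟩
    exact absurd (h8.symm.trans_le (Finite.card_le_one_iff_subsingleton.2 this)) (by decide)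
  · exact key 3 816 (hR 3 (fun _ => by decide) (absurd rfl) (by decide) (by decide) (by decide)) H.cube_dvd (by decide)
      (by decide) (by decide +kernel) (by decide)
  all_goals exact absurd h3 (by decide)

theorem OutG.both {S T : Type} [Group S] [Group T] (h : OutG 0 T) (p : ℕ) [hp : Fact p.Prime] (e : S ≃* T) :
    Cov XP 1 p S ∧ Cov XT 1 p S := ⟨.of_equiv e (h.cov_P p hp.out.ne_zero), .of_equiv e (h.cov_T p)⟩

theorem one_both (p : ℕ) [Fact p.Prime] (S : Type) [Group S] [Finite S] (h : IsSporadicGroup S ∨ Lie.IsoTits S) :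
    Cov XP 1 p S ∧ Cov XT 1 p S := by
  rcases h with (h | h | h | h | h | h | h | h | h | h | h | h | h | h | h | h | h | h | h | h | h | h | h | h | h | h) | h
  exacts [h.elim (oM11.both p), h.elim (oM12.both p), h.elim (oM22.both p), h.elim (oM23.both p), h.elim (oM24.both p),
    h.elim fun e => ⟨.of_equiv e (cov_J1 _ p), .of_equiv e (cov_J1 _ p)⟩, h.elim (oJ2.both p),
    ⟨fun _ _ _ _ _ _ _ H h1 => (not_J3 h H h1).1, fun _ _ _ _ _ _ _ H h1 => (not_J3 h H h1).2⟩, h.elim (oJ4.both p),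
    h.elim (oCo1.both p), h.elim (oCo2.both p), h.elim (oCo3.both p), h.elim (oMcL.both p), h.elim (oHS.both p),
    h.elim (oSuz.both p), h.elim (oHe.both p), h.elim (oRu.both p),
    h.elim fun e => ⟨(em (p = 3)).elim (fun h3 => cov_of_comm (by subst h3; exact H573.Spor.on_3 h))
      fun h3 => .of_equiv e (oON.cov_P p h3), .of_equiv e (oON.cov_T p)⟩,
    h.elim (oLy.both p), h.elim (oFi22.both p), h.elim (oFi23.both p), h.elim (oFi24.both p), h.elim (oHN.both p),
    h.elim (oTh.both p), h.elim (oB.both p), h.elim (oM.both p), (oTits h).both p (MulEquiv.refl _)]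

/-- **the simple sporadic groups and the Tits group : a member of positive height** -/
theorem one_P : ∀ (p : ℕ) [Fact p.Prime] (S : Type) [Group S] [Finite S],
    IsSporadicGroup S ∨ Lie.IsoTits S → Cov XP 1 p S := fun p _ S _ _ h => (one_both p S h).1

/-- **the simple sporadic groups and the Tits group : two degrees of height zero** -/
theorem one_T : ∀ (p : ℕ) [Fact p.Prime] (S : Type) [Group S] [Finite S],
    IsSporadicGroup S ∨ Lie.IsoTits S → Cov XT 1 p S := fun p _ S _ _ h => (one_both p S h).2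

end Cfsg.Agent.BZ.S1
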